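import Cfsg.Agent.H456.LD.HN.Enum

/-!
# The enumeration of the block: the degree 4809375 (helper456)
-/

set_option autoImplicit false
set_option maxRecDepth 100000

namespace Cfsg.Agent.H456.S8.HNEnum

open Cfsg.Agent.H456.LD.HN.Enum (cl As)

/-- the choice of the values -/
def chkA (c : ℕ) : List (ℤ × ℤ × ℤ) → ℤ → ℤ → ℕ → ℕ → ℕ → Bool
  | [], s2, s3, c1, c2, c3 => !(s2 == 0 && decide (s3 ≤ 177408000)) || (Nat.ble 1 c1 || (c2 == 2 && c3 == 1))
  | r :: l, s2, s3, c1, c2, c3 => (As r.1 r.2.1 c).all fun a =>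
      chkA c l (s2 + a * r.2.2) (s3 + a ^ 2) (c1 + if r.1 = 1539 then 1 else 0)
        (c2 + if r.1 = 1672 ∧ a = -6600 then 1 else 0) (c3 + if r.1 = 1881 ∧ a = -4675 then 1 else 0)

/-- all the choices of the values -/
def good (l : List (ℤ × ℤ × ℤ)) : Bool :=
  (List.range 5).all fun c => (As 209 0 c).all fun a0 => chkA c l (a0 * (-2)) (a0 ^ 2) 0 0 0

/-- the choice of the degrees -/
def chkN : ℕ → ℤ → List (ℤ × ℤ × ℤ) → Bool
  | 0, s, l => s != 0 || good l
  | k + 1, s, l => (s != 0 || good l) && cl.all fun r => chkN k (s + r.1 * r.2.2) (r :: l)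

theorem chkN_head {k : ℕ} {s : ℤ} {l : List (ℤ × ℤ × ℤ)} (h : chkN k s l = true) : (s != 0 || good l) = true := by
  cases k with
  | zero => exact h
  | succ k =>
    rw [chkN, Bool.and_eq_true] at h
    exact h.1

theorem chkN_sound : ∀ (l' : List (ℤ × ℤ × ℤ)) (k : ℕ) (s : ℤ) (l : List (ℤ × ℤ × ℤ)), chkN k s l = true → l'.length ≤ k →
    (∀ r ∈ l', r ∈ cl) → s + (l'.map fun r => r.1 * r.2.2).sum = 0 → good (l'.reverse ++ l) = true := by
  intro l'
  induction l' with
  | nil =>
    intro k s l h _ _ hs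
    have h1 := chkN_head h
    simp only [List.map_nil, List.sum_nil, add_zero] at hs
    rw [hs] at h1
    simpa using h1
  | cons r l' ih =>
    intro k s l h hk hm hs
    cases k with
    | zero => simp at hk
    | succ k =>
      rw [chkN, Bool.and_eq_true] at h
      have h1 := List.all_eq_true.1 h.2 r (hm r List.mem_cons_self)
      rw [List.reverse_cons, List.append_assoc]
      refine ih k _ (r :: l) h1 (by simpa using hk) (fun x hx => hm x (List.mem_cons_of_mem _ hx)) ?_
      rw [List.map_cons, List.sum_cons] at hs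
      linarith

theorem chkA_sound (c : ℕ) : ∀ (L : List ((ℤ × ℤ × ℤ) × ℤ)) (s2 s3 : ℤ) (c1 c2 c3 : ℕ),
    chkA c (L.map Prod.fst) s2 s3 c1 c2 c3 = true → (∀ r ∈ L, r.2 ∈ As r.1.1 r.1.2.1 c) →
    s2 + (L.map fun r => r.2 * r.1.2.2).sum = 0 → s3 + (L.map fun r => r.2 ^ 2).sum ≤ 177408000 →
    (1 ≤ c1 + L.countP (fun r => decide (r.1.1 = 1539))) ∨
      (c2 + L.countP (fun r => decide (r.1.1 = 1672 ∧ r.2 = -6600)) = 2 ∧
        c3 + L.countP (fun r => decide (r.1.1 = 1881 ∧ r.2 = -4675)) = 1) := by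
  intro L
  induction L with
  | nil =>
    intro s2 s3 c1 c2 c3 h _ h2 h3
    simp only [List.map_nil, List.sum_nil, add_zero] at h2 h3
    rw [List.map_nil, chkA] at h
    simp only [List.countP_nil, add_zero]
    rw [h2] at h
    simp only [beq_self_eq_true, Bool.true_and, Bool.or_eq_true, Bool.not_eq_true', decide_eq_false_iff_not, not_le,
      beq_iff_eq, Bool.and_eq_true] at h
    rcases h with h | h | h
    · omega
    · exact Or.inl (Nat.le_of_ble_eq_true h)
    · exact Or.inr h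
  | cons r L ih =>
    intro s2 s3 c1 c2 c3 h hm h2 h3
    rw [List.map_cons, chkA] at h
    have h1 := List.all_eq_true.1 h r.2 (hm r List.mem_cons_self)
    rw [List.map_cons, List.sum_cons] at h2 h3
    have h4 := ih _ _ _ _ _ h1 (fun x hx => hm x (List.mem_cons_of_mem _ hx)) (by linarith) (by linarith)
    rw [List.countP_cons, List.countP_cons, List.countP_cons]
    simp only [decide_eq_true_eq]
    split_ifs at h4 ⊢ <;> omega

set_option maxHeartbeats 4000000 in
theorem chkN_all : chkN 4 (209 * (-2)) [] = true := by decide +kernel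

/-- **The enumeration.** -/
theorem enum (c : ℕ) (hc : c < 5) {a0 : ℤ} (h0 : a0 ∈ As 209 0 c) (L : List ((ℤ × ℤ × ℤ) × ℤ)) (hlen : L.length ≤ 4)
    (hmem : ∀ r ∈ L, r.1 ∈ cl ∧ r.2 ∈ As r.1.1 r.1.2.1 c)
    (h1 : 209 * (-2) + (L.map fun r => r.1.1 * r.1.2.2).sum = 0)
    (h2 : a0 * (-2) + (L.map fun r => r.2 * r.1.2.2).sum = 0)
    (h3 : a0 ^ 2 + (L.map fun r => r.2 ^ 2).sum ≤ 177408000) :
    1 ≤ L.countP (fun r => decide (r.1.1 = 1539)) ∨
      (L.countP (fun r => decide (r.1.1 = 1672 ∧ r.2 = -6600)) = 2 ∧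
        L.countP (fun r => decide (r.1.1 = 1881 ∧ r.2 = -4675)) = 1) := by
  have hg := chkN_sound (L.map Prod.fst) 4 _ [] chkN_all (by simpa using hlen) (fun r hr => by
    obtain ⟨x, hx, rfl⟩ := List.mem_map.1 hr
    exact (hmem x hx).1) (by
    rw [List.map_map]
    exact h1)
  rw [List.append_nil, ← List.map_reverse] at hg
  have h4 := List.all_eq_true.1 hg c (List.mem_range.2 hc)
  have h5 := List.all_eq_true.1 h4 a0 h0
  have h6 := chkA_sound c L.reverse _ _ _ _ _ h5 (fun r hr => (hmem r (List.mem_reverse.1 hr)).2)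
    (by rw [List.map_reverse, List.sum_reverse]; exact h2) (by rw [List.map_reverse, List.sum_reverse]; exact h3)
  simpa only [List.countP_reverse, zero_add] using h6

end Cfsg.Agent.H456.S8.HNEnum
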