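import Cfsg.Agent.H456.LD.HN.Kill
import Cfsg.Agent.H456.S8.HNEnum

/-!
# The character of degree 4809375 of the Harada–Norton group (helper456)
-/

set_option autoImplicit false
set_option maxRecDepth 100000

open scoped ComplexConjugate
open Cfsg Subgroup

namespace Cfsg.Agent.H456.S8.HNDeg

open Cfsg.Agent.Characters.Core
open Cfsg.Agent.H456.LD.HN.Tab (A5 t2 z5)
open Cfsg.Agent.H456.LD.HN.Types Cfsg.Agent.H456.LD.HN.Grp Cfsg.Agent.H456.LD.HN.Val
open Cfsg.Agent.H456.LD.HN.Blk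
open Cfsg.Agent.H456.LD.HN.Kill (no_second vv_of)
open Cfsg.Agent.H456.LD.HN.Enum (cl As)

local notation "Γ" => Cfsg.Spor.HN

set_option maxHeartbeats 4000000 in
open scoped Classical in
/-- **The block contains a character of degree 4809375.** -/
theorem exists_deg {M : Ideal AlgInt} {χ0 : IrrCharacter Γ} (h : Hyp M χ0) :
    ∃ χ ∈ blockOf M (χ0 : Γ → ℂ), dd χ = 4809375 := by
  have := Fintype.ofFinite (IrrCharacter Γ)
  have hprime := Cfsg.Agent.Blocks.Local.isPrime_of_isPModular h.hM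
  set Bf : Finset (IrrCharacter Γ) := Finset.univ.filter (· ∈ blockOf M (χ0 : Γ → ℂ)) with hBf
  have hmemB : ∀ χ, χ ∈ Bf ↔ χ ∈ blockOf M (χ0 : Γ → ℂ) := fun χ => by simp [hBf]
  have h0B : χ0 ∈ Bf := (hmemB χ0).2 (Cfsg.Agent.Blocks.Basic.mem_blockOf_self χ0)
  have hcardB : Bf.card ≤ 5 := by
    have h1 := card_le h
    have h2 : Nat.card (blockOf M (χ0 : Γ → ℂ)) = Bf.card := by
      rw [Nat.card_eq_card_finite_toFinset (Set.toFinite _)]
      congr 1
      ext χ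
      rw [Set.Finite.mem_toFinset, hmemB]
    rwa [h2] at h1
  set Live : Finset (IrrCharacter Γ) := (Bf.erase χ0).filter (fun χ => ¬ (vv χ = 5 ∨ vv χ = -5)) with hLive
  have hLB : ∀ χ ∈ Live, χ ∈ blockOf M (χ0 : Γ → ℂ) ∧ ¬ (vv χ = 5 ∨ vv χ = -5) ∧ χ ≠ χ0 := by
    intro χ hχ
    rw [hLive, Finset.mem_filter, Finset.mem_erase, hmemB] at hχ
    exact ⟨hχ.1.2, hχ.2, hχ.1.1⟩
  have hLc : Live.card ≤ 4 := by
    have h1 : Live.card ≤ (Bf.erase χ0).card := Finset.card_filter_le _ _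
    rw [Finset.card_erase_of_mem h0B] at h1
    omega
  have hww0 : ∀ χ : IrrCharacter Γ, (vv χ = 5 ∨ vv χ = -5) → ww χ = 0 := by
    intro χ hχ
    have h1 := (spec χ).1
    simp only [tyList, List.mem_cons, Prod.mk.injEq, List.not_mem_nil, or_false] at h1
    omega
  obtain ⟨v0, b0, w0⟩ := ty0 h
  have hn0 : nn χ0 = 209 := by
    unfold nn
    rw [h.deg]
  have hsplit : ∀ c : IrrCharacter Γ → ℤ, ∑ χ ∈ Bf, ww χ * c χ = -2 * c χ0 + ∑ χ ∈ Live, ww χ * c χ := by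
    intro c
    rw [← Finset.add_sum_erase _ _ h0B, w0]
    congr 1
    rw [hLive, Finset.sum_filter_of_ne]
    intro χ _ hne hv
    exact hne (by rw [hww0 χ hv, zero_mul])
  have o1 := orth h (s := 1) (by rw [orderOf_one]; norm_num) (c := fun χ => (dd χ : ℤ)) (fun χ => by
    rw [dd_eq]; push_cast; rfl)
  have o2 := orth h (s := t) (by rw [orderOf_t]; norm_num) (c := aa) aa_eq
  rw [hsplit] at o1 o2
  have o1' : 209 * (-2) + ∑ χ ∈ Live, ((nn χ : ℕ) : ℤ) * ww χ = 0 := by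
    have h1 : ∑ χ ∈ Live, ww χ * (dd χ : ℤ) = 3125 * ∑ χ ∈ Live, ((nn χ : ℕ) : ℤ) * ww χ := by
      rw [Finset.mul_sum]
      refine Finset.sum_congr rfl fun χ hχ => ?_
      rw [dd_nn h (hLB χ hχ).1]
      push_cast
      ring
    rw [h1, h.deg] at o1
    push_cast at o1
    omega
  obtain ⟨c, hc, hAs⟩ := mem_vals h
  have hA0 : aa χ0 ∈ As 209 0 c := by
    have := hAs χ0 ((hmemB χ0).1 h0B) (by omega)
    rw [hn0, b0] at this
    exact_mod_cast this
  set f : IrrCharacter Γ → (ℤ × ℤ × ℤ) × ℤ := fun χ => ((((nn χ : ℕ) : ℤ), bb χ, ww χ), aa χ) with hf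
  have hsumL : ∀ g : (ℤ × ℤ × ℤ) × ℤ → ℤ, ((Live.toList.map f).map g).sum = ∑ χ ∈ Live, g (f χ) := by
    intro g
    rw [List.map_map, Finset.sum_map_toList]
    rfl
  have hcountL : ∀ q : (ℤ × ℤ × ℤ) × ℤ → Bool, (Live.toList.map f).countP q = (Live.filter (fun χ => q (f χ) = true)).card := by
    intro q
    rw [List.countP_map]
    have h1 : List.countP (q ∘ f) Live.toList = Multiset.countP (fun χ => q (f χ) = true) (Live.toList : Multiset (IrrCharacter Γ)) := by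
      rw [Multiset.coe_countP]
      refine List.countP_congr fun χ _ => ?_
      simp
    rw [h1, Finset.coe_toList, Multiset.countP_eq_card_filter]
    rfl
  have hsq : aa χ0 ^ 2 + ∑ χ ∈ Live, aa χ ^ 2 ≤ 177408000 := by
    have h1 : χ0 ∉ Live := fun hh => (hLB χ0 hh).2.2 rfl
    have h2 : aa χ0 ^ 2 + ∑ χ ∈ Live, aa χ ^ 2 = ∑ χ ∈ insert χ0 Live, aa χ ^ 2 := (Finset.sum_insert (f := fun χ => aa χ ^ 2) h1).symm
    rw [h2, ← sum_sq_t]
    exact Finset.sum_le_sum_of_subset_of_nonneg (Finset.subset_univ _) (fun χ _ _ => sq_nonneg _)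
  have hmain := Cfsg.Agent.H456.S8.HNEnum.enum c hc hA0 (Live.toList.map f) (by rw [List.length_map, Finset.length_toList]; exact hLc)
    (by
      intro r hr
      obtain ⟨χ, hχ, rfl⟩ := List.mem_map.1 hr
      rw [Finset.mem_toList] at hχ
      exact ⟨mem_cand h (hLB χ hχ).1 (hLB χ hχ).2.1, hAs χ (hLB χ hχ).1 (hLB χ hχ).2.1⟩)
    (by rw [hsumL]; exact o1')
    (by
      rw [hsumL]
      have h1 : ∑ χ ∈ Live, (f χ).2 * (f χ).1.2.2 = ∑ χ ∈ Live, ww χ * aa χ :=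
        Finset.sum_congr rfl fun χ _ => mul_comm _ _
      rw [h1]
      linarith)
    (by rw [hsumL]; exact hsq)
  rw [hcountL, hcountL, hcountL] at hmain
  rcases hmain with hmain | ⟨hm1, hm2⟩
  · obtain ⟨χ, hχ⟩ := Finset.card_pos.1 (Nat.lt_of_lt_of_le one_pos hmain)
    rw [Finset.mem_filter, decide_eq_true_eq] at hχ
    have hn : nn χ = 1539 := by
      have : ((nn χ : ℕ) : ℤ) = 1539 := hχ.2
      exact_mod_cast this
    exact ⟨χ, (hLB χ hχ.1).1, by rw [dd_nn h (hLB χ hχ.1).1, hn]⟩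
  · exfalso
    obtain ⟨X1, X2, h12, hX⟩ := Finset.card_eq_two.1 hm1
    obtain ⟨ψ, hψ⟩ := Finset.card_eq_one.1 hm2
    have m1 : X1 ∈ Live.filter (fun χ => decide ((f χ).1.1 = 1672 ∧ (f χ).2 = -6600) = true) := by rw [hX]; simp
    have m2 : X2 ∈ Live.filter (fun χ => decide ((f χ).1.1 = 1672 ∧ (f χ).2 = -6600) = true) := by rw [hX]; simp
    have m3 : ψ ∈ Live.filter (fun χ => decide ((f χ).1.1 = 1881 ∧ (f χ).2 = -4675) = true) := by rw [hψ]; simp
    rw [Finset.mem_filter, decide_eq_true_eq] at m1 m2 m3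
    have n1 : nn X1 = 1672 := by
      have : ((nn X1 : ℕ) : ℤ) = 1672 := m1.2.1
      exact_mod_cast this
    have n2 : nn X2 = 1672 := by
      have : ((nn X2 : ℕ) : ℤ) = 1672 := m2.2.1
      exact_mod_cast this
    have n3 : nn ψ = 1881 := by
      have : ((nn ψ : ℕ) : ℤ) = 1881 := m3.2.1
      exact_mod_cast this
    have c1 := vv_of (mem_cand h (hLB X1 m1.1).1 (hLB X1 m1.1).2.1)
    have c2 := vv_of (mem_cand h (hLB X2 m2.1).1 (hLB X2 m2.1).2.1)
    have c3 := vv_of (mem_cand h (hLB ψ m3.1).1 (hLB ψ m3.1).2.1)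
    exact no_second h12 (by rw [dd_nn h (hLB X1 m1.1).1, n1]) (by rw [dd_nn h (hLB X2 m2.1).1, n2])
      (by rw [dd_nn h (hLB ψ m3.1).1, n3]) m1.2.2 m2.2.2 m3.2.2 (c1.1 n1) (c2.1 n2) (c3.2 n3)

end Cfsg.Agent.H456.S8.HNDeg
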