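import Cfsg.Agent.H456.S8.HNNum
import Cfsg.Agent.H456.S8.HNDeg
import Cfsg.Agent.H456.LD.RowHN
import Cfsg.Agent.H175.Ore.HNDeg
import Cfsg.Agent.H242.S8.Twin

/-!
# S4908, SOLV for the Harada–Norton group (helper456)

* `solv_iso` : no solvable group has the degrees of `HN` or of `Aut HN`.
-/

set_option autoImplicit false
set_option maxRecDepth 10000

namespace Cfsg.Agent.H456.S8.HNSolv

open Cfsg Subgroup
open Cfsg.Agent.Characters.Core
open Cfsg.Agent.H456.S8.HNNum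
open Cfsg.Agent.H456.LD.HN.Blk (dd dd_eq)

universe u v

local notation "Γ" => Cfsg.Spor.HN

theorem mem_divs {d : ℕ} (h : d ∣ 273030912000000) : ∃ a < 15, ∃ b < 7, ∃ c < 7, ∃ e < 2, ∃ f < 2, ∃ g < 2,
    d = 2 ^ a * 3 ^ b * 5 ^ c * 7 ^ e * 11 ^ f * 19 ^ g := by
  have h0 : d ∣ 2 ^ 14 * 3 ^ 6 * 5 ^ 6 * 7 ^ 1 * 11 ^ 1 * 19 ^ 1 := by
    have e : 2 ^ 14 * 3 ^ 6 * 5 ^ 6 * 7 ^ 1 * 11 ^ 1 * 19 ^ 1 = 273030912000000 := by norm_num
    rwa [e]
  obtain ⟨d5, x6, h5, q6, rfl⟩ := Nat.dvd_mul.1 h0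
  obtain ⟨d4, x5, h4, q5, rfl⟩ := Nat.dvd_mul.1 h5
  obtain ⟨d3, x4, h3, q4, rfl⟩ := Nat.dvd_mul.1 h4
  obtain ⟨d2, x3, h2, q3, rfl⟩ := Nat.dvd_mul.1 h3
  obtain ⟨x1, x2, q1, q2, rfl⟩ := Nat.dvd_mul.1 h2
  obtain ⟨a, ha, rfl⟩ := (Nat.dvd_prime_pow Nat.prime_two).1 q1
  obtain ⟨b, hb, rfl⟩ := (Nat.dvd_prime_pow Nat.prime_three).1 q2
  obtain ⟨c, hc, rfl⟩ := (Nat.dvd_prime_pow Nat.prime_five).1 q3
  obtain ⟨e, he, rfl⟩ := (Nat.dvd_prime_pow (show Nat.Prime 7 by norm_num)).1 q4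
  obtain ⟨f, hf, rfl⟩ := (Nat.dvd_prime_pow (show Nat.Prime 11 by norm_num)).1 q5
  obtain ⟨g, hg, rfl⟩ := (Nat.dvd_prime_pow (show Nat.Prime 19 by norm_num)).1 q6
  exact ⟨a, by omega, b, by omega, c, by omega, e, by omega, f, by omega, g, by omega, rfl⟩

theorem okd_of_dvd {d : ℕ} (h : d ∣ 273030912000000) : okd d = true := by
  obtain ⟨a, ha, b, hb, c, hc, e, he, f, hf, g, hg, rfl⟩ := mem_divs h
  have h1 := List.all_eq_true.1 all_ok a (List.mem_range.2 ha)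
  have h2 := List.all_eq_true.1 h1 b (List.mem_range.2 hb)
  have h3 := List.all_eq_true.1 h2 c (List.mem_range.2 hc)
  have h4 := List.all_eq_true.1 h3 e (List.mem_range.2 he)
  have h5 := List.all_eq_true.1 h4 f (List.mem_range.2 hf)
  exact List.all_eq_true.1 h5 g (List.mem_range.2 hg)

/-- the degrees of `HN` and their doubles -/
theorem mem_adm (χ : IrrCharacter Γ) : dd χ ∈ Adm ∧ (dd χ ≠ 1 → 2 * dd χ ∈ Adm) := by
  have hfin := Cfsg.Agent.H710.Spor.HN.finite_hn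
  have := Fintype.ofFinite (IrrCharacter Γ)
  have h1 := okd_of_dvd (d := dd χ) (by
    have h2 := Cfsg.Agent.H511.Ore.charDegree_dvd χ
    rwa [Cfsg.Agent.H175.Ore.HNDeg.card_hn] at h2)
  have h19 := Cfsg.Agent.H456.LD.HN.Blk.mod_nineteen χ
  have h11 : dd χ % 11 = 0 ∨ dd χ % 11 = 1 ∨ dd χ % 11 = 10 := Cfsg.Agent.H456.LD.HN.Grp.mod_eleven χ
  have hsq : dd χ * dd χ < 273030912000000 := by
    have h2 := Cfsg.Agent.H456.LD.HN.Blk.dd_sq χ
    have h3 : dd χ * dd χ ≤ 273030912000000 := by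
      have h4 : ((dd χ * dd χ : ℕ) : ℤ) ≤ 273030912000000 := by push_cast; nlinarith
      exact_mod_cast h4
    by_contra hcon
    rcases Nat.lt_or_ge (dd χ) 16523648 with h4 | h4
    · nlinarith
    · nlinarith
  have hsm : 770 < dd χ ∨ dd χ = 1 ∨ dd χ = 133 ∨ dd χ = 760 := by
    by_cases h1 : (χ : Γ → ℂ) = 1
    · right; left
      have h2 := dd_eq χ
      rw [h1, Pi.one_apply] at h2
      exact_mod_cast h2.symm
    · rcases Cfsg.Agent.H175.Ore.HNDeg.deg_cases h1 with h2 | h2 | h2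
      · exact Or.inr (Or.inr (Or.inl h2))
      · exact Or.inr (Or.inr (Or.inr h2))
      · exact Or.inl h2
  generalize dd χ = d at h1 h19 h11 hsq hsm ⊢
  unfold okd at h1
  simp only [Bool.or_eq_true, Bool.and_eq_true, Bool.not_eq_true', beq_iff_eq, List.contains_iff_mem,
    Bool.or_eq_false_iff, beq_eq_false_iff_ne, ne_eq] at h1
  rcases h1 with (((h1 | h1) | h1) | h1) | h1
  · have h2 := Nat.le_of_ble_eq_true h1
    omega
  · exfalso
    obtain ⟨⟨⟨⟨e1, e2⟩, e3⟩, e4⟩, e5⟩ := h1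
    rcases h19 with h | h | h | h | h
    · exact e1 h
    · exact e2 h
    · exact e3 h
    · exact e4 h
    · exact e5 h
  · exfalso
    obtain ⟨⟨e1, e2⟩, e3⟩ := h1
    rcases h11 with h | h | h
    · exact e1 h
    · exact e2 h
    · exact e3 h
  · exfalso
    obtain ⟨⟨⟨e0, e1⟩, e2⟩, e3⟩ := h1
    have h2 := Nat.le_of_ble_eq_true e0
    rcases hsm with h | h | h | h
    · omega
    · exact e1 h
    · exact e2 h
    · exact e3 h
  · exact ⟨h1.1, fun h => h1.2.resolve_left h⟩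

/-- the known degrees -/
theorem known : ∀ n ∈ [16929, 653125, 3200000, 4809375], ∃ χ : IrrCharacter Γ, dd χ = n := by
  obtain ⟨α, χ0, h1, h2, -, -, h5⟩ := Cfsg.Agent.H456.LD.HN.Chi.main
  obtain ⟨M, hM⟩ := Cfsg.Agent.Blocks.ExistsModular.exists_isPModular (by norm_num : Nat.Prime 5)
  have hH : Cfsg.Agent.H456.LD.HN.Blk.Hyp M χ0 := ⟨hM, Cfsg.Agent.Blocks.Basic.charDegree_of_eq h2, h5⟩
  obtain ⟨χ, -, hχd, -⟩ := Cfsg.Agent.H456.LD.HN.Kill.unique hH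
  obtain ⟨ψ, -, hψ⟩ := Cfsg.Agent.H456.S8.HNDeg.exists_deg hH
  intro n hn
  simp only [List.mem_cons, List.not_mem_nil, or_false] at hn
  rcases hn with rfl | rfl | rfl | rfl
  · exact ⟨α, Cfsg.Agent.Blocks.Basic.charDegree_of_eq h1⟩
  · exact ⟨χ0, hH.deg⟩
  · exact ⟨χ, hχd⟩
  · exact ⟨ψ, hψ⟩

/-- **SOLV.** -/
theorem solv_iso {X : Type v} [Group X] [Finite X] (h : Spor.IsoHN X) {D : Set ℕ} (hD : Cfsg.Agent.H704.S8.Deg 2 X D) :
    Cfsg.Agent.H704.S8.Solv.{u} D := by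
  obtain ⟨e⟩ := h
  have hsΓ : IsSimpleGroup Γ := Cfsg.Agent.S1701.result.1
  have hs : IsSimpleGroup X := e.isSimpleGroup
  have hnc : ¬ IsMulCommutative X := fun hc => Cfsg.Agent.H175.Ore.HNDeg.not_comm
    ⟨⟨fun a b => e.symm.injective (by rw [map_mul, map_mul, hc.is_comm.comm])⟩⟩
  have hi : (MulAut.conj : X →* MulAut X).range.index ≤ 2 := by
    have h1 : Nat.card (Out X) = 2 := by
      rw [Cfsg.Agent.H548.Crit.card_out_congr e, Cfsg.Agent.S2082.result]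
    exact h1.le
  have hcd : charDegrees X = charDegrees Γ := Cfsg.Agent.H424.DegTools.charDegrees_congr e
  have hmem : ∀ n, n ∈ charDegrees X ↔ ∃ χ : IrrCharacter Γ, dd χ = n := by
    intro n
    rw [hcd]
    constructor
    · rintro ⟨χ, hχ⟩
      exact ⟨χ, hχ⟩
    · rintro ⟨χ, hχ⟩
      exact ⟨χ, hχ⟩
  obtain ⟨up, down⟩ := Cfsg.Agent.H242.S8.deg_two' hs hnc hi hD
  intro G _ _ hsol hG
  refine (Cfsg.Agent.H497.S8.solv_of_chk2.{u} (D := D) 33000000 [2, 3, 5, 7, 11, 19] Adm K ?_ ?_ ?_ chk_ok) hsol hG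
  · intro p hp
    simp only [List.mem_cons, List.not_mem_nil, or_false] at hp
    rcases hp with rfl | rfl | rfl | rfl | rfl | rfl <;> norm_num
  · intro d hd
    rcases down d hd with h1 | ⟨n, h1, h2, rfl⟩
    · obtain ⟨χ, rfl⟩ := (hmem d).1 h1
      exact (mem_adm χ).1
    · obtain ⟨χ, rfl⟩ := (hmem n).1 h1
      exact (mem_adm χ).2 h2
  · intro l hl
    have hup : ∀ n ∈ [16929, 653125, 3200000, 4809375], n ∈ D ∨ 2 * n ∈ D := fun n hn =>
      up n ((hmem n).2 (known n hn))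
    simp only [K, List.mem_cons, List.not_mem_nil, or_false] at hl
    rcases hl with rfl | rfl | rfl | rfl
    · rcases hup 16929 (by simp) with h1 | h1
      · exact ⟨_, by simp, h1⟩
      · exact ⟨_, by simp, h1⟩
    · rcases hup 653125 (by simp) with h1 | h1
      · exact ⟨_, by simp, h1⟩
      · exact ⟨_, by simp, h1⟩
    · rcases hup 3200000 (by simp) with h1 | h1
      · exact ⟨_, by simp, h1⟩
      · exact ⟨_, by simp, h1⟩
    · rcases hup 4809375 (by simp) with h1 | h1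
      · exact ⟨_, by simp, h1⟩
      · exact ⟨_, by simp, h1⟩

end Cfsg.Agent.H456.S8.HNSolv
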