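import Cfsg.Agent.H497.S8.SolvTwo
import Cfsg.Agent.H242.S8.Twin
import Cfsg.Agent.H952.S8.Suz

/-!
# S4908, SOLV for the Suzuki group: the numbers (helper456)

* `solv_of` : no solvable group has the degrees of `Suz` or `Aut Suz`, if `197120` and `243243` are degrees of `Suz`.
-/

set_option autoImplicit false
set_option maxRecDepth 100000

namespace Cfsg.Agent.H456.S8.SuzNum

open Cfsg

universe u v

/-- the possible degrees of `Suz` and `Aut Suz` -/
def Adm : List ℕ :=
  [1, 110, 143, 144, 175, 176, 208, 220, 286, 288, 350, 351, 352, 364, 384, 396, 416, 429, 440, 462, 495, 540, 560,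
   572, 650, 702, 704, 715, 728, 768, 780, 792, 825, 858, 891, 924, 936, 990, 1001, 1080, 1120, 1144, 1287, 1300,
   1320, 1365, 1430, 1540, 1560, 1584, 1638, 1650, 1716, 1728, 1782, 1848, 1872, 1925, 2002, 2079, 2080, 2100, 2112,
   2145, 2288, 2430, 2464, 2496, 2574, 2640, 2730, 2860, 2925, 2970, 3003, 3080, 3276, 3300, 3432, 3456, 3465, 3510,
   3564, 3575, 3640, 3850, 3861, 4004, 4158, 4160, 4200, 4212, 4224, 4290, 4368, 4400, 4576, 4608, 4752, 4860, 4928,
   4992, 5005, 5103, 5148, 5280, 5544, 5720, 5850, 5940, 6006, 6160, 6435, 6480, 6656, 6720, 6864, 6930, 7020, 7040,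
   7150, 7280, 7371, 7722, 7800, 8008, 8424, 8448, 8580, 8736, 8800, 9009, 9152, 9216, 9360, 9450, 9504, 9856, 9900,
   10010, 10206, 10296, 10692, 10725, 11088, 11232, 11264, 11440, 11550, 11583, 11648, 11880, 12012, 12474, 12870,
   12960, 13312, 13365, 13440, 13650, 13728, 13860, 14080, 14300, 14742, 15015, 15444, 15600, 15795, 15840, 16016,
   16380, 17160, 17600, 17920, 18018, 18304, 18480, 18720, 18900, 18954, 19008, 19305, 19656, 19800, 20020, 20592,
   20736, 20800, 21384, 21450, 22176, 22275, 22464, 22528, 22880, 23100, 23166, 23296, 24024, 24057, 24948, 24960,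
   25025, 25200, 25344, 25740, 26730, 27027, 27300, 27456, 28160, 28600, 29160, 29568, 29952, 30030, 30888, 31590,
   31680, 32032, 32175, 32760, 34320, 34749, 35100, 35640, 35840, 36036, 36400, 36608, 36960, 37908, 38610, 39312,
   39600, 40040, 41184, 41472, 41580, 41600, 42120, 42768, 42900, 43680, 44550, 45045, 45056, 45760, 46200, 46332,
   48048, 48114, 49896, 49920, 50050, 50400, 50544, 50688, 51480, 51975, 52416, 52800, 54054, 54912, 55296, 56133,
   57024, 57200, 57344, 57915, 58320, 59136, 59904, 60060, 61236, 61425, 61600, 61776, 63360, 64064, 64350, 66528,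
   66560, 68640, 69498, 70200, 71280, 72072, 72800, 73216, 73710, 73920, 75075, 77220, 77760, 79872, 80080, 80190,
   80640, 81081, 82368, 83160, 84240, 84480, 85800, 87360, 88452, 89100, 90090, 91520, 92664, 93555, 93600, 96096,
   96228, 96525, 98560, 100100, 101088, 101376, 102400, 102960, 103950, 104247, 104832, 105600, 108108, 109350,
   109824, 110592, 112266, 112320, 113400, 114048, 114400, 114688, 115830, 116480, 118272, 118800, 120120, 122472,
   122850, 123200, 123552, 128128, 128304, 128700, 133056, 133120, 134784, 135135, 135168, 137280, 138600, 138996,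
   139776, 142560, 144144, 146432, 147420, 149688, 150150, 154440, 155520, 157696, 157950, 159744, 160160, 160380,
   161280, 162162, 163800, 164736, 166320, 168960, 171600, 173745, 176904, 180180, 183040, 185328, 187110, 187200,
   189540, 190080, 192192, 193050, 196560, 197120, 200200, 204800, 205920, 208494, 211200, 215040, 216216, 218700,
   219648, 221760, 224640, 225225, 226800, 227448, 228096, 228800, 231660, 232960, 235872, 237600, 240240, 243243,
   246400, 247104, 248832, 249600, 256256, 256608, 257400, 266112, 267300, 269568, 270270, 270336, 274560, 277200,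
   277992, 279552, 281600, 288288, 289575, 292864, 299376, 299520, 300300, 302400, 304128, 308880, 311850, 312741,
   315392, 315900, 320320, 320760, 324324, 327600, 329472, 331695, 336798, 337920, 343200, 347490, 349920, 354816,
   359424, 360360, 366080, 370656, 372736, 374220, 379080, 380160, 384384, 386100, 393120, 394240, 398034, 400400,
   405405, 411840, 416988, 421200, 427680, 430080, 432432, 436800, 439296, 443520, 450450, 450560, 454896, 457600,
   463320, 471744, 475200, 480480, 486486, 494208, 497664, 498960, 499200, 505440, 512512, 513216, 514800, 521235,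
   524160, 534600, 540540, 540672, 549120, 554400, 555984, 563200, 576576, 579150, 585728, 598752, 599040, 600600,
   601425, 604800, 606528, 608256, 617760, 623700, 625482, 628992, 630784, 633600, 640640, 648648, 658944, 663390,
   663552, 665600, 673596, 686400, 694980, 699840, 709632, 718848, 720720, 732160, 741312, 745472, 760320, 768768,
   772200, 796068, 800800, 810810, 823680, 833976, 842400, 855360, 864864, 873600, 878592, 887040, 900900, 901120,
   915200, 926640, 960960, 972972, 988416, 997920, 1010880, 1025024, 1029600, 1042470, 1048320, 1069200, 1081080,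
   1098240, 1111968, 1126400, 1153152, 1158300, 1171456, 1201200, 1202850, 1213056, 1216512, 1235520, 1247400,
   1250964, 1257984, 1267200, 1281280, 1297296, 1317888, 1327104, 1331200]

/-- the known degrees, up to a factor 2 -/
def K : List (List ℕ) := [[197120, 394240], [243243, 486486]]

set_option maxHeartbeats 4000000 in
theorem chk_ok : Cfsg.Agent.H497.S8.chk2 1331200 [2, 3, 5, 7, 11, 13] Adm K = true := by decide +kernel

/-- the condition for the degrees of `Suz` -/
def okd (d : ℕ) : Bool :=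
  Nat.ble 448345497600 (d * d) ||
    !(d % 13 == 0 || d % 13 == 1 || d % 13 == 6 || d % 13 == 7 || d % 13 == 12) ||
    !(d % 11 == 0 || d % 11 == 1 || d % 11 == 10) || (Nat.ble d 109 && !(d == 1)) ||
    (Adm.contains d && (d == 1 || Adm.contains (2 * d)))

set_option maxHeartbeats 4000000 in
theorem all_ok : ((List.range 14).all fun a => (List.range 8).all fun b => (List.range 3).all fun c =>
    (List.range 2).all fun e => (List.range 2).all fun f => (List.range 2).all fun g =>
      okd (2 ^ a * 3 ^ b * 5 ^ c * 7 ^ e * 11 ^ f * 13 ^ g)) = true := by decide +kernel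

theorem mem_divs {d : ℕ} (h : d ∣ 448345497600) : ∃ a < 14, ∃ b < 8, ∃ c < 3, ∃ e < 2, ∃ f < 2, ∃ g < 2,
    d = 2 ^ a * 3 ^ b * 5 ^ c * 7 ^ e * 11 ^ f * 13 ^ g := by
  have h0 : d ∣ 2 ^ 13 * 3 ^ 7 * 5 ^ 2 * 7 ^ 1 * 11 ^ 1 * 13 ^ 1 := by
    have e : 2 ^ 13 * 3 ^ 7 * 5 ^ 2 * 7 ^ 1 * 11 ^ 1 * 13 ^ 1 = 448345497600 := by norm_num
    rwa [e]
  obtain ⟨d5, x6, h5, q6, rfl⟩ := Nat.dvd_mul.1 h0
  obtain ⟨d4, x5, h4, q5, rfl⟩ := Nat.dvd_mul.1 h5
  obtain ⟨d3, x4, h3, q4, rfl⟩ := Nat.dvd_mul.1 h4
  obtain ⟨d2, x3, h2, q3, rfl⟩ := Nat.dvd_mul.1 h3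
  obtain ⟨x1, x2, q1, q2, rfl⟩ := Nat.dvd_mul.1 h2
  obtain ⟨a, ha, rfl⟩ := (Nat.dvd_prime_pow Nat.prime_two).1 q1
  obtain ⟨b, hb, rfl⟩ := (Nat.dvd_prime_pow Nat.prime_three).1 q2
  obtain ⟨c, hc, rfl⟩ := (Nat.dvd_prime_pow Nat.prime_five).1 q3
  obtain ⟨e, he, rfl⟩ := (Nat.dvd_prime_pow (show Nat.Prime 7 by norm_num)).1 q4
  obtain ⟨f, hf, rfl⟩ := (Nat.dvd_prime_pow (show Nat.Prime 11 by norm_num)).1 q5
  obtain ⟨g, hg, rfl⟩ := (Nat.dvd_prime_pow (show Nat.Prime 13 by norm_num)).1 q6
  exact ⟨a, by omega, b, by omega, c, by omega, e, by omega, f, by omega, g, by omega, rfl⟩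

theorem okd_of_dvd {d : ℕ} (h : d ∣ 448345497600) : okd d = true := by
  obtain ⟨a, ha, b, hb, c, hc, e, he, f, hf, g, hg, rfl⟩ := mem_divs h
  have h1 := List.all_eq_true.1 all_ok a (List.mem_range.2 ha)
  have h2 := List.all_eq_true.1 h1 b (List.mem_range.2 hb)
  have h3 := List.all_eq_true.1 h2 c (List.mem_range.2 hc)
  have h4 := List.all_eq_true.1 h3 e (List.mem_range.2 he)
  have h5 := List.all_eq_true.1 h4 f (List.mem_range.2 hf)
  exact List.all_eq_true.1 h5 g (List.mem_range.2 hg)

variable {X : Type v} [Group X] [Finite X]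

/-- the degrees of `Suz` and their doubles -/
theorem mem_adm (hX : Spor.IsoSuz X) {d : ℕ} (hd : d ∈ charDegrees X) : d ∈ Adm ∧ (d ≠ 1 → 2 * d ∈ Adm) := by
  obtain ⟨hdvd, hsm, h13, h11⟩ := Cfsg.Agent.H952.S8.Suz.degX hX hd
  have h1 := okd_of_dvd hdvd
  have hcard : Nat.card X = 448345497600 := by
    obtain ⟨e⟩ := hX
    rw [Nat.card_congr e.toEquiv, Cfsg.Agent.H133.Ore.Suz.card]
  have hsq : d * d < 448345497600 := by
    have h2 := Cfsg.Agent.H424.DegTools.sq_le hd ⊥ (fun z hz => by
      rw [Subgroup.mem_bot] at hz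
      rw [hz]
      exact Subgroup.one_mem _)
    rw [Subgroup.index_bot, hcard] at h2
    by_contra hcon
    rcases Nat.lt_or_ge d 669587 with h4 | h4
    · nlinarith
    · nlinarith
  unfold okd at h1
  simp only [Bool.or_eq_true, Bool.and_eq_true, Bool.not_eq_true', beq_iff_eq, List.contains_iff_mem,
    Bool.or_eq_false_iff, beq_eq_false_iff_ne, ne_eq] at h1
  rcases h1 with (((h1 | h1) | h1) | h1) | h1
  · have h2 := Nat.le_of_ble_eq_true h1
    omega
  · exfalso
    obtain ⟨⟨⟨⟨e1, e2⟩, e3⟩, e4⟩, e5⟩ := h1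
    rcases h13 with h | h | h | h | h
    · exact e1 h
    · exact e2 h
    · exact e3 h
    · exact e4 h
    · exact e5 h
  · exfalso
    obtain ⟨⟨e1, e2⟩, e3⟩ := h1
    rcases h11 with h | h | h
    · exact e1 h
    · exact e2 h
    · exact e3 h
  · exfalso
    obtain ⟨e0, e1⟩ := h1
    have h2 := Nat.le_of_ble_eq_true e0
    rcases hsm with h | h
    · exact e1 h
    · omega
  · exact ⟨h1.1, fun h => h1.2.resolve_left h⟩

/-- **SOLV from two degrees.** -/
theorem solv_of (h1 : 197120 ∈ charDegrees Spor.Suz) (h2 : 243243 ∈ charDegrees Spor.Suz) (hX : Spor.IsoSuz X)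
    {D : Set ℕ} (hD : Cfsg.Agent.H704.S8.Deg 2 X D) : Cfsg.Agent.H704.S8.Solv.{u} D := by
  have hsS : IsSimpleGroup Spor.Suz := Cfsg.Agent.H133.Ore.Suz.simple
  have hi := Cfsg.Agent.H952.S8.Suz.index_le hX
  have hX' := hX
  obtain ⟨e⟩ := hX'
  have hs : IsSimpleGroup X := e.isSimpleGroup
  have hnc : ¬ IsMulCommutative X := fun hc => Cfsg.Agent.H133.Ore.Suz.not_comm
    ⟨⟨fun a b => e.symm.injective (by rw [map_mul, map_mul, hc.is_comm.comm])⟩⟩
  have hcd : charDegrees X = charDegrees Spor.Suz := Cfsg.Agent.H424.DegTools.charDegrees_congr e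
  obtain ⟨up, down⟩ := Cfsg.Agent.H242.S8.deg_two' hs hnc hi hD
  intro G _ _ hsol hG
  refine (Cfsg.Agent.H497.S8.solv_of_chk2.{u} (D := D) 1331200 [2, 3, 5, 7, 11, 13] Adm K ?_ ?_ ?_ chk_ok) hsol hG
  · intro p hp
    simp only [List.mem_cons, List.not_mem_nil, or_false] at hp
    rcases hp with rfl | rfl | rfl | rfl | rfl | rfl <;> norm_num
  · intro d hd
    rcases down d hd with h3 | ⟨n, h3, h4, rfl⟩
    · exact (mem_adm hX h3).1
    · exact (mem_adm hX h3).2 h4
  · intro l hl
    simp only [K, List.mem_cons, List.not_mem_nil, or_false] at hl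
    rcases hl with rfl | rfl
    · rcases up 197120 (hcd ▸ h1) with h3 | h3
      · exact ⟨_, by simp, h3⟩
      · exact ⟨_, by simp, h3⟩
    · rcases up 243243 (hcd ▸ h2) with h3 | h3
      · exact ⟨_, by simp, h3⟩
      · exact ⟨_, by simp, h3⟩

end Cfsg.Agent.H456.S8.SuzNum
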