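import Cfsg.Agent.H456.S8.SuzNum
import Cfsg.Agent.H714.S8.SuzGen

/-!
# S4908, SOLV for the Suzuki group (helper456, characters by helper714)
-/

set_option autoImplicit false

namespace Cfsg.Agent.H456.S8.SuzSolv

open Cfsg

universe u v

/-- **SOLV for `Suz`.** -/
theorem solv_iso {X : Type v} [Group X] [Finite X] (hX : Spor.IsoSuz X) {D : Set ℕ}
    (hD : Cfsg.Agent.H704.S8.Deg 2 X D) : Cfsg.Agent.H704.S8.Solv.{u} D := by
  obtain ⟨θ, h1, h2, -⟩ := Cfsg.Agent.H714.S8.SuzFam.irr197120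
  obtain ⟨θ', h1', h2', -⟩ := Cfsg.Agent.H714.S8.SuzFam.irr243243
  exact Cfsg.Agent.H456.S8.SuzNum.solv_of (Cfsg.Agent.H424.DegTools.mem_charDegrees.2 ⟨θ, h1, h2⟩)
    (Cfsg.Agent.H424.DegTools.mem_charDegrees.2 ⟨θ', h1', h2'⟩) hX hD

end Cfsg.Agent.H456.S8.SuzSolv
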